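import Mathlib

/-!
# Linear characters of a finite abelian group, by bare hands
-/

set_option autoImplicit false
set_option linter.style.haveILetI false
set_option linter.unusedSectionVars false

namespace CfsgLib.Blocks.FpfExc

open scoped ComplexConjugate

variable {A : Type*} [Group A] [Finite A]

theorem conj_hom (ψ : A →* ℂˣ) (a : A) : conj ((ψ a : ℂˣ) : ℂ) = ((ψ a⁻¹ : ℂˣ) : ℂ) := by
  have h1 : ((ψ a : ℂˣ) : ℂ) ^ orderOf a = 1 := by
    rw [← Units.val_pow_eq_pow_val, ← map_pow, pow_orderOf_eq_one, map_one, Units.val_one]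
  rw [map_inv, Units.val_inv_eq_inv_val, Complex.inv_eq_conj (Complex.norm_eq_one_of_pow_eq_one h1 (orderOf_pos a).ne')]

theorem sum_hom [Fintype A] (ψ : A →* ℂˣ) [Decidable (ψ = 1)] :
    ∑ a : A, ((ψ a : ℂˣ) : ℂ) = if ψ = 1 then (Nat.card A : ℂ) else 0 := by
  classical
  split_ifs with h
  · subst h; simp [Nat.card_eq_fintype_card]
  obtain ⟨b, hb⟩ : ∃ b, ψ b ≠ 1 := by
    by_contra hcon
    push Not at hcon
    exact h (MonoidHom.ext hcon)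
  have h1 : ∑ a : A, ((ψ a : ℂˣ) : ℂ) = ((ψ b : ℂˣ) : ℂ) * ∑ a : A, ((ψ a : ℂˣ) : ℂ) := by
    rw [Finset.mul_sum]
    exact (Fintype.sum_equiv (Equiv.mulLeft b) _ _ fun a => by simp).symm
  have h2 : ((ψ b : ℂˣ) : ℂ) ≠ 1 := fun h => hb (Units.ext h)
  exact (mul_eq_zero.1 (show (((ψ b : ℂˣ) : ℂ) - 1) * _ = 0 by rw [sub_mul, one_mul, ← h1, sub_self])).resolve_left
    (sub_ne_zero.2 h2)

variable (hA : ∀ a b : A, a * b = b * a)

include hA

theorem card_homs : Nat.card (A →* ℂˣ) = Nat.card A := by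
  letI : CommGroup A := { (inferInstance : Group A) with mul_comm := hA }
  exact CommGroup.card_monoidHom_of_hasEnoughRootsOfUnity A ℂ

theorem finite_homs : Finite (A →* ℂˣ) := Nat.finite_of_card_ne_zero (by rw [card_homs hA]; exact Nat.card_pos.ne')

theorem sum_homs [Fintype (A →* ℂˣ)] (a : A) [Decidable (a = 1)] :
    ∑ ψ : A →* ℂˣ, ((ψ a : ℂˣ) : ℂ) = if a = 1 then (Nat.card A : ℂ) else 0 := by
  classical
  split_ifs with h
  · subst h
    simp [← card_homs hA, Nat.card_eq_fintype_card]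
  letI : CommGroup A := { (inferInstance : Group A) with mul_comm := hA }
  obtain ⟨φ, hφ⟩ := CommGroup.exists_apply_ne_one_of_hasEnoughRootsOfUnity A ℂ h
  have h1 : ∑ ψ : A →* ℂˣ, ((ψ a : ℂˣ) : ℂ) = ((φ a : ℂˣ) : ℂ) * ∑ ψ : A →* ℂˣ, ((ψ a : ℂˣ) : ℂ) := by
    rw [Finset.mul_sum]
    exact (Fintype.sum_equiv (Equiv.mulLeft φ) _ _ fun ψ => by simp).symm
  have h2 : ((φ a : ℂˣ) : ℂ) ≠ 1 := fun h => hφ (Units.ext h)
  exact (mul_eq_zero.1 (show (((φ a : ℂˣ) : ℂ) - 1) * _ = 0 by rw [sub_mul, one_mul, ← h1, sub_self])).resolve_left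
    (sub_ne_zero.2 h2)

/-- Fourier inversion. -/
theorem fourier [Fintype A] [Fintype (A →* ℂˣ)] (f : A → ℂ) (y : A) :
    f y = ∑ ψ : A →* ℂˣ, ((Nat.card A : ℂ)⁻¹ * ∑ z : A, f z * ((ψ z⁻¹ : ℂˣ) : ℂ)) * ((ψ y : ℂˣ) : ℂ) := by
  classical
  have e : ∀ ψ : A →* ℂˣ, ((Nat.card A : ℂ)⁻¹ * ∑ z : A, f z * ((ψ z⁻¹ : ℂˣ) : ℂ)) * ((ψ y : ℂˣ) : ℂ) =
      ∑ z : A, (Nat.card A : ℂ)⁻¹ * f z * ((ψ (z⁻¹ * y) : ℂˣ) : ℂ) := by
    intro ψ
    rw [mul_assoc, Finset.sum_mul, Finset.mul_sum]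
    exact Finset.sum_congr rfl fun z _ => by rw [map_mul, Units.val_mul]; ring
  rw [Finset.sum_congr rfl fun ψ _ => e ψ, Finset.sum_comm,
    Finset.sum_eq_single_of_mem y (Finset.mem_univ _) fun z _ hz => by
      rw [← Finset.mul_sum, sum_homs hA, if_neg fun h => hz (inv_mul_eq_one.1 h), mul_zero],
    ← Finset.mul_sum, sum_homs hA, if_pos (inv_mul_cancel y)]
  have := (Nat.cast_ne_zero (R := ℂ)).2 (Nat.card_pos (α := A)).ne'
  field_simp

end CfsgLib.Blocks.FpfExc
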